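import Groth.Agent.NodeChar.Point

/-!
Coefficient fields for formally smooth residue fields.
-/

set_option autoImplicit false
set_option linter.style.haveILetI false
set_option maxHeartbeats 1000000

universe u

open IsLocalRing

namespace Groth.Agent.NodeBranch

open Groth.Agent.NodeChar

variable {A : Type u} [CommRing A] [IsLocalRing A] [IsNoetherianRing A] (k : Type u) [Field k] [Algebra k A]
  [Algebra.FormallySmooth k (ResidueField A)]

local notation "Ah" => AdicCompletion (maximalIdeal A) A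

/-- formally smooth residue fields lift to the completion -/
theorem exists_coeffField_smooth :
    ∃ ι : ResidueField A →+* Ah, (∀ t : k, ι (algebraMap k (ResidueField A) t) = algebraMap A Ah (algebraMap k A t)) ∧
      Function.Surjective ((residue Ah).comp ι) := by
  set m := maximalIdeal A
  let q : (A ⧸ m ^ 1) →ₐ[k] ResidueField A :=
    Ideal.Quotient.liftₐ (m ^ 1) (IsScalarTower.toAlgHom k A (ResidueField A)) fun a ha =>
      (residue_eq_zero_iff a).2 (by rwa [pow_one] at ha)
  have hqs : Function.Surjective q := fun e => by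
    obtain ⟨a, rfl⟩ := residue_surjective e
    exact ⟨Ideal.Quotient.mk _ a, rfl⟩
  have hqk : IsNilpotent (RingHom.ker (q : (A ⧸ m ^ 1) →+* ResidueField A)) := by
    refine ⟨1, (pow_one _).trans ?_⟩
    rw [Ideal.zero_eq_bot, eq_bot_iff]
    intro w hw
    obtain ⟨w, rfl⟩ := Ideal.Quotient.mk_surjective w
    exact Ideal.Quotient.eq_zero_iff_mem.2 (by rw [pow_one]; exact (residue_eq_zero_iff w).1 hw)
  let p : ∀ n, (A ⧸ m ^ (n + 1 + 1)) →ₐ[k] A ⧸ m ^ (n + 1) := fun n =>
    Ideal.Quotient.factorₐ k (Ideal.pow_le_pow_right (Nat.le_succ _))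
  have hps : ∀ n, Function.Surjective (p n) := fun n w => by
    obtain ⟨w, rfl⟩ := Ideal.Quotient.mk_surjective w
    exact ⟨Ideal.Quotient.mk _ w, rfl⟩
  have hpk : ∀ n, IsNilpotent (RingHom.ker (p n : (A ⧸ m ^ (n + 1 + 1)) →+* A ⧸ m ^ (n + 1))) := fun n => by
    refine ⟨2, le_bot_iff.1 ?_⟩
    have hker : RingHom.ker (p n : (A ⧸ m ^ (n + 1 + 1)) →+* A ⧸ m ^ (n + 1)) ≤
        (m ^ (n + 1)).map (Ideal.Quotient.mk (m ^ (n + 1 + 1))) := fun w hw => by
      obtain ⟨w, rfl⟩ := Ideal.Quotient.mk_surjective w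
      exact Ideal.mem_map_of_mem _ (Ideal.Quotient.eq_zero_iff_mem.1 hw)
    refine (Ideal.pow_right_mono hker 2).trans ?_
    refine le_of_eq_of_le (Ideal.map_pow (Ideal.Quotient.mk (m ^ (n + 1 + 1))) (m ^ (n + 1)) 2).symm ?_
    rw [← pow_mul]
    exact (Ideal.map_mono (Ideal.pow_le_pow_right (show n + 1 + 1 ≤ (n + 1) * 2 by omega))).trans_eq
      (Ideal.map_quotient_self _)
  let σ : ∀ n, ResidueField A →ₐ[k] A ⧸ m ^ (n + 1) := fun n =>
    Nat.rec (motive := fun n => ResidueField A →ₐ[k] A ⧸ m ^ (n + 1))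
      (Algebra.FormallySmooth.liftOfSurjective (AlgHom.id k (ResidueField A)) q hqs hqk)
      (fun n s => Algebra.FormallySmooth.liftOfSurjective s (p n) (hps n) (hpk n)) n
  have hσ0 : ∀ e, q (σ 0 e) = e := fun e =>
    Algebra.FormallySmooth.liftOfSurjective_apply _ q hqs hqk e
  have hσs : ∀ n e, p n (σ (n + 1) e) = σ n e := fun n e =>
    Algebra.FormallySmooth.liftOfSurjective_apply _ (p n) (hps n) (hpk n) e
  let f : ∀ n, ResidueField A →+* A ⧸ m ^ n := fun n =>
    (Ideal.Quotient.factorPow m (Nat.le_succ n)).comp (σ n).toRingHom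
  have hsucc : ∀ n, (Ideal.Quotient.factorPow m (Nat.le_succ n)).comp (f (n + 1)) = f n := fun n => by
    refine RingHom.ext fun e => ?_
    show Ideal.Quotient.factorPow m (Nat.le_succ n) (Ideal.Quotient.factorPow m (Nat.le_succ (n + 1)) (σ (n + 1) e)) =
      Ideal.Quotient.factorPow m (Nat.le_succ n) (σ n e)
    rw [← hσs n e]
    obtain ⟨w, hw⟩ := Ideal.Quotient.mk_surjective (σ (n + 1) e)
    rw [← hw]
    rfl
  have hf : ∀ {i j : ℕ} (hij : i ≤ j), (Ideal.Quotient.factorPow m hij).comp (f j) = f i := by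
    intro i j hij
    induction j, hij using Nat.le_induction with
    | base =>
      refine RingHom.ext fun e => ?_
      obtain ⟨w, hw⟩ := Ideal.Quotient.mk_surjective (f i e)
      rw [RingHom.comp_apply, ← hw]
      rfl
    | succ j hij ih =>
      have key : ∀ w : A ⧸ m ^ (j + 1), Ideal.Quotient.factorPow m (hij.trans (Nat.le_succ j)) w =
          Ideal.Quotient.factorPow m hij (Ideal.Quotient.factorPow m (Nat.le_succ j) w) := fun w => by
        obtain ⟨w, rfl⟩ := Ideal.Quotient.mk_surjective w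
        rfl
      refine RingHom.ext fun e => ?_
      rw [← ih, ← hsucc j]
      exact key (f (j + 1) e)
  let ι := AdicCompletion.liftRingHom m f hf
  have hι : ∀ n e, AdicCompletion.evalₐ m n (ι e) = Ideal.Quotient.factorPow m (Nat.le_succ n) (σ n e) := fun n e =>
    AdicCompletion.evalₐ_liftRingHom m f hf n e
  refine ⟨ι, fun t => AdicCompletion.ext_evalₐ fun n => ?_, fun r => ?_⟩
  · rw [hι, (σ n).commutes, AlgHom.commutes]
    rfl
  · obtain ⟨w, rfl⟩ := residue_surjective r
    obtain ⟨a, ha⟩ := Ideal.Quotient.mk_surjective (AdicCompletion.evalₐ m 1 w)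
    refine ⟨residue A a, Ideal.Quotient.eq.2 ?_⟩
    have hker : ∀ z : Ah, AdicCompletion.evalₐ m 1 z = 0 → z ∈ maximalIdeal Ah := fun z hz => by
      rw [mem_maximalIdeal]
      intro hu
      have h1 := hu.map (AdicCompletion.evalₐ m 1)
      rw [hz] at h1
      haveI : Nontrivial (A ⧸ m ^ 1) :=
        Ideal.Quotient.nontrivial_iff.2 (by rw [pow_one]; exact (maximalIdeal.isMaximal A).ne_top)
      exact not_isUnit_zero h1
    refine hker _ ?_
    rw [map_sub, hι, ← ha, sub_eq_zero]
    obtain ⟨b, hb⟩ := Ideal.Quotient.mk_surjective (σ 1 (residue A a))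
    have h1 : σ 0 (residue A a) = Ideal.Quotient.mk _ b := by
      rw [← hσs 0, show σ (0 + 1) (residue A a) = _ from hb.symm]
      rfl
    have h2 : residue A b = residue A a := by
      conv_rhs => rw [← hσ0 (residue A a), h1]
      rfl
    rw [← hb, show Ideal.Quotient.factorPow m (Nat.le_succ 1) (Ideal.Quotient.mk _ b) = Ideal.Quotient.mk _ b from rfl,
      Ideal.Quotient.eq, pow_one, ← residue_eq_zero_iff, map_sub, h2, sub_self]

/-- quadratic local rings with formally smooth residue field have a model as completion -/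
theorem exists_model_completion_smooth (h : IsQuadLocal A) :
    ∃ a b c : ResidueField A, disc a b c ≠ 0 ∧ ∃ e : Ah ≃+* Model a b c,
      ∀ t : k, e (algebraMap A Ah (algebraMap k A t)) =
        Ideal.Quotient.mk _ (MvPowerSeries.C (algebraMap k (ResidueField A) t)) := by
  obtain ⟨ι, hι, hres⟩ := exists_coeffField_smooth (A := A) k
  letI : Algebra (ResidueField A) Ah := ι.toAlgebra
  haveI := isAdicComplete_completion (A := A)
  obtain ⟨a, b, c, hd, ⟨e⟩⟩ := exists_equiv_model (F := ResidueField A) (C := Ah) hres (isQuadLocal_completion_iff.2 h)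
  refine ⟨a, b, c, hd, e.symm.toRingEquiv, fun t => ?_⟩
  rw [← hι]
  show e.symm (algebraMap (ResidueField A) Ah _) = _
  rw [AlgEquiv.commutes, IsScalarTower.algebraMap_apply (ResidueField A) (MvPowerSeries (Fin 2) (ResidueField A)) (Model a b c),
    MvPowerSeries.algebraMap_apply, Algebra.algebraMap_self]
  rfl

end Groth.Agent.NodeBranch
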