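import Groth.Agent.NagataOne.Branch

/-!
Geometric branches as homomorphisms of the normalisation into the algebraic closure of the residue field.
-/

set_option autoImplicit false
set_option linter.style.haveILetI false

universe u

open IsLocalRing

namespace Groth.Agent.NodeBranch

variable (A : Type u) [CommRing A] [IsLocalRing A]

/-- the pairs (maximal ideal, embedding) are the homomorphisms -/
theorem card_sigma_eq (S : Type u) [CommRing S] [Algebra A S] [Algebra.IsIntegral A S] :
    ENat.card (Σ m : MaximalSpectrum S,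
      {σ : S ⧸ m.asIdeal →+* AlgebraicClosure (ResidueField A) //
        σ.comp ((Ideal.Quotient.mk m.asIdeal).comp (algebraMap A S)) = Brnch.toClosure A}) =
    ENat.card {σ : S →+* AlgebraicClosure (ResidueField A) // σ.comp (algebraMap A S) = Brnch.toClosure A} := by
  let K := AlgebraicClosure (ResidueField A)
  let F : (Σ m : MaximalSpectrum S,
      {σ : S ⧸ m.asIdeal →+* K // σ.comp ((Ideal.Quotient.mk m.asIdeal).comp (algebraMap A S)) = Brnch.toClosure A}) →
      {σ : S →+* K // σ.comp (algebraMap A S) = Brnch.toClosure A} :=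
    fun p => ⟨p.2.1.comp (Ideal.Quotient.mk p.1.asIdeal), by rw [RingHom.comp_assoc]; exact p.2.2⟩
  have hker : ∀ p, RingHom.ker (F p).1 = p.1.asIdeal := fun p => by
    haveI := p.1.isMaximal
    letI : Field (S ⧸ p.1.asIdeal) := Ideal.Quotient.field _
    show RingHom.ker (p.2.1.comp (Ideal.Quotient.mk p.1.asIdeal)) = _
    rw [RingHom.ker_comp_of_injective _ p.2.1.injective, Ideal.mk_ker]
  refine ENat.card_congr (Equiv.ofBijective F ⟨fun p q h => ?_, fun σ => ?_⟩)
  · have hm : p.1 = q.1 := MaximalSpectrum.ext (by rw [← hker p, ← hker q, h])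
    obtain ⟨m, s⟩ := p
    obtain ⟨m', s'⟩ := q
    cases hm
    refine congrArg _ (Subtype.ext (Ideal.Quotient.ringHom_ext ?_))
    exact congrArg Subtype.val h
  · haveI hp : (RingHom.ker σ.1).IsPrime := RingHom.ker_isPrime σ.1
    have hc : (RingHom.ker σ.1).comap (algebraMap A S) = maximalIdeal A := by
      rw [RingHom.comap_ker, σ.2, Brnch.toClosure, RingHom.ker_comp_of_injective _ (RingHom.injective _)]
      exact IsLocalRing.ker_residue
    haveI hmax : (RingHom.ker σ.1).IsMaximal :=
      Ideal.isMaximal_of_isIntegral_of_isMaximal_comap _ (hc ▸ maximalIdeal.isMaximal A)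
    exact ⟨⟨⟨RingHom.ker σ.1, hmax⟩, Ideal.Quotient.lift _ σ.1 (fun _ h => h), σ.2⟩, Subtype.ext rfl⟩

/-- geometric branches of a reduced ring -/
theorem numGeomBranches_eq [IsReduced A] [IsNoetherianRing A] {S : Type u} [CommRing S] [Algebra A S]
    (e : S ≃ₐ[A] integralClosure A (FractionRing A)) :
    Brnch.numGeomBranches A =
      ENat.card {σ : S →+* AlgebraicClosure (ResidueField A) // σ.comp (algebraMap A S) = Brnch.toClosure A} := by
  classical
  have hnil : nilradical A = ⊥ := nilradical_eq_bot_iff.mpr inferInstance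
  let ε : A ≃+* CAlg2.red A := ((RingEquiv.quotientBot A).symm).trans (Ideal.quotEquivOfEq hnil.symm)
  let E : FractionRing A ≃+* FractionRing (CAlg2.red A) := IsFractionRing.ringEquivOfRingEquiv ε
  have hE : ∀ a, E (algebraMap A _ a) = algebraMap (CAlg2.red A) _ (ε a) :=
    fun a => IsFractionRing.ringEquivOfRingEquiv_algebraMap ε a
  have hmem : ∀ x, IsIntegral (CAlg2.red A) (E x) ↔ IsIntegral A x := fun x => by
    refine ⟨fun h => ?_, fun h => ?_⟩
    · have := h.map_of_comp_eq ε.symm.toRingHom E.symm.toRingHom (RingHom.ext fun r => by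
        obtain ⟨a, rfl⟩ := ε.surjective r
        show algebraMap A _ (ε.symm (ε a)) = E.symm (algebraMap _ _ (ε a))
        rw [← hE, RingEquiv.symm_apply_apply, RingEquiv.symm_apply_apply])
      simpa using this
    · exact h.map_of_comp_eq ε.toRingHom E.toRingHom (RingHom.ext fun a => (hE a).symm)
  letI : Algebra A (CAlg2.normRed A) :=
    ((algebraMap (CAlg2.red A) (CAlg2.normRed A)).comp (Ideal.Quotient.mk (nilradical A))).toAlgebra
  let Ψ : integralClosure A (FractionRing A) ≃ₐ[A] CAlg2.normRed A :=
    { toFun := fun z => ⟨E z, (hmem _).mpr z.2⟩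
      invFun := fun z => ⟨E.symm z, (hmem _).mp (by rw [RingEquiv.apply_symm_apply]; exact z.2)⟩
      left_inv := fun z => Subtype.ext (E.symm_apply_apply _)
      right_inv := fun z => Subtype.ext (E.apply_symm_apply _)
      map_mul' := fun a b => Subtype.ext (map_mul E _ _)
      map_add' := fun a b => Subtype.ext (map_add E _ _)
      commutes' := fun a => Subtype.ext (hE a) }
  haveI : Algebra.IsIntegral A (integralClosure A (FractionRing A)) :=
    ⟨fun z => (isIntegral_algHom_iff (integralClosure A (FractionRing A)).val Subtype.coe_injective).mp z.2⟩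
  let Φ : S ≃ₐ[A] CAlg2.normRed A := e.trans Ψ
  haveI : Algebra.IsIntegral A (CAlg2.normRed A) := Algebra.IsIntegral.of_surjective Ψ.toAlgHom Ψ.surjective
  rw [Brnch.numGeomBranches, if_pos (minimalPrimes.finite_of_isNoetherianRing A)]
  refine (card_sigma_eq A (CAlg2.normRed A)).trans ?_
  let G : {σ : CAlg2.normRed A →+* AlgebraicClosure (ResidueField A) //
        σ.comp (algebraMap A (CAlg2.normRed A)) = Brnch.toClosure A} ≃
      {σ : S →+* AlgebraicClosure (ResidueField A) // σ.comp (algebraMap A S) = Brnch.toClosure A} :=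
    { toFun := fun σ => ⟨σ.1.comp Φ.toRingEquiv.toRingHom, RingHom.ext fun a =>
        (congrArg σ.1 (Φ.commutes a)).trans (RingHom.congr_fun σ.2 a)⟩
      invFun := fun σ => ⟨σ.1.comp Φ.symm.toRingEquiv.toRingHom, RingHom.ext fun a =>
        (congrArg σ.1 (Φ.symm.commutes a)).trans (RingHom.congr_fun σ.2 a)⟩
      left_inv := fun σ => Subtype.ext (RingHom.ext fun z => congrArg σ.1 (Φ.apply_symm_apply z))
      right_inv := fun σ => Subtype.ext (RingHom.ext fun z => congrArg σ.1 (Φ.symm_apply_apply z)) }
  exact ENat.card_congr G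

end Groth.Agent.NodeBranch
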