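import Groth.Agent.NodeBranch.Quad

/-!
A ring with `δ = 1` and two geometric branches is quadratic.
-/

set_option autoImplicit false
set_option linter.style.haveILetI false
set_option maxHeartbeats 1000000

universe u

open IsLocalRing
open scoped nonZeroDivisors

namespace Groth.Agent.NodeBranch

open Groth.Agent Groth.Agent.NodeChar

variable {A : Type u} [CommRing A] [IsLocalRing A] [IsNoetherianRing A] [IsReduced A]

attribute [local instance] NagataOne.finite_min

/-- the normalisation of a one dimensional reduced Nagata local ring is a principal ideal ring -/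
theorem isPrincipalIdealRing_closure (hN : CAlg.IsNagata A) (hdim : ringKrullDim A = 1) :
    IsPrincipalIdealRing (integralClosure A (FractionRing A)) := by
  classical
  haveI : ∀ p : NagataOne.Min A, IsPrincipalIdealRing (integralClosure A (NagataOne.Kp A p)) := by
    intro p
    let B := integralClosure A (NagataOne.Kp A p)
    haveI := NagataOne.isIntegrallyClosed_closure A p
    haveI := NagataOne.finite_closure_Kp A hN p
    haveI : IsNoetherianRing B := IsNoetherianRing.of_finite A B
    haveI : Ring.KrullDimLE 1 B := Ring.krullDimLE_iff.2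
      (((Order.krullDim_le_of_strictMono (PrimeSpectrum.comap (algebraMap A B)) fun P Q hPQ =>
        Ideal.comap_lt_comap_of_integral_mem_sdiff (le_of_lt (show P.asIdeal < Q.asIdeal from hPQ)) (SetLike.exists_of_lt (show P.asIdeal < Q.asIdeal from hPQ)).choose_spec
          (Algebra.IsIntegral.isIntegral _))).trans hdim.le)
    haveI : IsDedekindDomain B :=
      (isDedekindDomain_iff B (FractionRing B)).2 ⟨inferInstance, inferInstance,
        ⟨fun {q} hq hqp => hqp.isMaximal_of_ne_bot hq⟩, (isIntegrallyClosed_iff _).1 inferInstance⟩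
    refine IsPrincipalIdealRing.of_finite_maximals ?_
    let I := (maximalIdeal A).map (algebraMap A B)
    letI : Algebra (A ⧸ maximalIdeal A) (B ⧸ I) := Ideal.Quotient.algebraQuotientMapQuotient
    haveI : IsArtinianRing (B ⧸ I) := by
      haveI : Module.Finite A (B ⧸ I) :=
        Module.Finite.of_surjective (Ideal.Quotient.mkₐ A I).toLinearMap Ideal.Quotient.mk_surjective
      haveI : Module.Finite (A ⧸ maximalIdeal A) (B ⧸ I) :=
        Module.Finite.of_restrictScalars_finite A (A ⧸ maximalIdeal A) (B ⧸ I)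
      haveI : IsArtinianRing (A ⧸ maximalIdeal A) := by
        letI := Ideal.Quotient.field (maximalIdeal A)
        infer_instance
      exact IsArtinianRing.of_finite (A ⧸ maximalIdeal A) (B ⧸ I)
    have hfin : {M : Ideal (B ⧸ I) | M.IsMaximal}.Finite :=
      (IsArtinianRing.setOfPred_isMaximal_finite (B ⧸ I))
    refine (hfin.image (Ideal.comap (Ideal.Quotient.mk I))).subset fun M hM => ?_
    haveI : M.IsMaximal := hM
    have hIM : I ≤ M := by
      refine Ideal.map_le_iff_le_comap.2 ?_
      rw [IsLocalRing.eq_maximalIdeal (Ideal.isMaximal_comap_of_isIntegral_of_isMaximal (R := A) M)]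
    refine ⟨M.map (Ideal.Quotient.mk I), ?_, ?_⟩
    · exact Ideal.IsMaximal.map_of_surjective_of_ker_le Ideal.Quotient.mk_surjective (by rw [Ideal.mk_ker]; exact hIM)
    · rw [Ideal.comap_map_of_surjective _ Ideal.Quotient.mk_surjective, sup_eq_left,
        ← RingHom.ker_eq_comap_bot, Ideal.mk_ker]
      exact hIM
  let e := (AlgEquiv.ofBijective _ (NagataOne.closureToPi_bijective A)).toRingEquiv
  exact IsPrincipalIdealRing.of_surjective e.symm.toRingHom e.symm.surjective

/-- a quadratic ring from its invariants -/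
theorem isQuadLocal_of_delta (hN : CAlg.IsNagata A) (hdim : ringKrullDim A = 1) (hδ : Curv2.deltaInv A = 1)
    (hb : Brnch.numGeomBranches A = 2) : IsQuadLocal A := by
  classical
  let K := FractionRing A
  let S := integralClosure A K
  haveI := NagataOne.finite_integralClosure A hN
  haveI := isPrincipalIdealRing_closure hN hdim
  let ι := algebraMap A S
  have hinj : Function.Injective ι := fun p q h => IsFractionRing.injective A K (congrArg Subtype.val h)
  let R := LinearMap.range (Algebra.linearMap A S)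
  let L := AlgebraicClosure (ResidueField A)
  let t : A →+* L := Brnch.toClosure A
  have ht0 : ∀ s, t s = 0 ↔ s ∈ maximalIdeal A := fun s =>
    (map_eq_zero (algebraMap (ResidueField A) L)).trans (residue_eq_zero_iff s)
  rw [numGeomBranches_eq A (S := S) AlgEquiv.refl] at hb
  obtain ⟨f, g, hfg⟩ := Set.encard_eq_two.1 (show ({f : S →+* L | f.comp ι = t}).encard = 2 from hb)
  obtain ⟨hne, hset⟩ := hfg
  have hf : f.comp ι = t := hset.ge (Set.mem_insert _ _)
  have hg : g.comp ι = t := hset.ge (Set.mem_insert_of_mem _ rfl)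
  obtain ⟨θ, hθ⟩ : ∃ θ, f θ ≠ g θ := by
    by_contra! h
    exact hne (RingHom.ext h)
  have hθR : θ ∉ R := fun ⟨s, hs⟩ => hθ (by
    rw [← hs]
    exact (RingHom.congr_fun hf s).trans (RingHom.congr_fun hg s).symm)
  haveI : IsSimpleModule A (S ⧸ R) := Module.length_eq_one_iff.1 hδ
  have hq : R.mkQ θ ≠ 0 := fun h => hθR ((Submodule.Quotient.mk_eq_zero R).1 h)
  have hrepr : ∀ z : S, ∃ α β : A, z = ι α + ι β * θ := fun z => by
    obtain ⟨β, hβ⟩ := IsSimpleModule.toSpanSingleton_surjective A hq (R.mkQ z)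
    rw [LinearMap.toSpanSingleton_apply, ← map_smul] at hβ
    obtain ⟨α, hα⟩ := (Submodule.Quotient.eq R).1 hβ.symm
    refine ⟨α, β, ?_⟩
    rw [show ι α = z - β • θ from hα, Algebra.smul_def]
    exact (sub_add_cancel z _).symm
  have hann : ∀ s ∈ maximalIdeal A, ∀ z : S, s • R.mkQ z = 0 := by
    intro s hs z
    obtain ⟨I, hI, ⟨e⟩⟩ := isSimpleModule_iff_quot_maximal.1 ‹IsSimpleModule A (S ⧸ R)›
    obtain rfl := IsLocalRing.eq_maximalIdeal hI
    apply e.injective
    rw [map_smul, map_zero]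
    obtain ⟨w, hw⟩ := Ideal.Quotient.mk_surjective (e (R.mkQ z))
    rw [← hw]
    exact Ideal.Quotient.eq_zero_iff_mem.2 (Ideal.mul_mem_right _ _ hs)
  obtain ⟨u, v, huv⟩ := hrepr (θ ^ 2)
  have hfroot : ∀ h : S →+* L, h.comp ι = t → h θ ^ 2 = t u + t v * h θ := fun h hh => by
    rw [← map_pow, huv, map_add, map_mul, ← RingHom.comp_apply, ← RingHom.comp_apply h ι v, hh]
  have hsum : f θ + g θ = t v := by
    refine mul_left_cancel₀ (sub_ne_zero.2 hθ) ?_
    linear_combination hfroot f hf - hfroot g hg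
  have hdisc : IsUnit (disc 1 (-v) (-u)) := by
    rw [← not_not (a := IsUnit _), ← mem_nonunits_iff, ← mem_maximalIdeal]
    intro h
    have h0 := (ht0 _).2 h
    simp only [disc, map_sub, map_mul, map_neg, map_pow, map_one, map_ofNat] at h0
    refine hθ (sub_eq_zero.1 ((pow_eq_zero_iff two_ne_zero).1 ?_))
    linear_combination h0 + 4 * hfroot f hf + (g θ + t v - 3 * f θ) * hsum
  have hf0 : ∀ z ∈ (maximalIdeal A).map ι, f z = 0 := by
    intro z hz
    refine Submodule.span_induction ?_ (map_zero f) (fun _ _ _ _ e1 e2 => by rw [map_add, e1, e2, add_zero])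
      (fun _ _ _ e => by rw [smul_eq_mul, map_mul, e, mul_zero]) hz
    rintro _ ⟨s', hs', rfl⟩
    exact (RingHom.congr_fun hf s').trans ((ht0 s').2 hs')
  -- the maximal ideal is an ideal of the normalisation
  have hmS : ∀ z ∈ (maximalIdeal A).map ι, ∃ s ∈ maximalIdeal A, ι s = z := by
    have h1 : ∀ z ∈ (maximalIdeal A).map ι, ∃ s, ι s = z := by
      intro z hz
      refine Submodule.span_induction ?_ ⟨0, map_zero _⟩ ?_ ?_ hz
      · rintro _ ⟨s, -, rfl⟩; exact ⟨s, rfl⟩
      · rintro p q - - ⟨s, hs⟩ ⟨s', hs'⟩; exact ⟨s + s', by rw [map_add, hs, hs']⟩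
      · intro p q hq hqs
        obtain ⟨s, rfl⟩ := hqs
        by_cases hs : s ∈ maximalIdeal A
        · have h2 := hann s hs p
          rw [← map_smul] at h2
          obtain ⟨s', hs'⟩ := (Submodule.Quotient.mk_eq_zero R).1 h2
          exact ⟨s', by
            show _ = p • ι s
            rw [smul_eq_mul, mul_comm, ← Algebra.smul_def]; exact hs'⟩
        · exfalso
          have hu : IsUnit s := not_not.1 fun h => hs ((mem_maximalIdeal s).2 h)
          have h3 : f (ι s) = 0 := hf0 _ hq
          exact hs ((ht0 s).1 ((RingHom.congr_fun hf s).symm.trans h3))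
    intro z hz
    obtain ⟨s, rfl⟩ := h1 z hz
    exact ⟨s, (ht0 s).1 ((RingHom.congr_fun hf s).symm.trans (hf0 _ hz)), rfl⟩
  obtain ⟨τ, hτ⟩ := IsPrincipalIdealRing.principal ((maximalIdeal A).map ι)
  obtain ⟨y, hy, rfl⟩ := hmS τ (hτ ▸ Ideal.mem_span_singleton_self τ)
  obtain ⟨x, hx, hxe⟩ := hmS (ι y * θ) (Ideal.mul_mem_right _ _ (Ideal.mem_map_of_mem _ hy))
  have hspan : maximalIdeal A = Ideal.span {x, y} := by
    refine le_antisymm (fun s hs => ?_) (Ideal.span_le.2 (Set.insert_subset hx (Set.singleton_subset_iff.2 hy)))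
    obtain ⟨z, hz⟩ := Ideal.mem_span_singleton'.1
      (show ι s ∈ Ideal.span {ι y} by rw [← Ideal.submodule_span_eq, ← hτ]; exact Ideal.mem_map_of_mem _ hs)
    obtain ⟨α, β, rfl⟩ := hrepr z
    refine Ideal.mem_span_pair.2 ⟨β, α, hinj ?_⟩
    rw [map_add, map_mul, map_mul, hxe, ← hz]
    ring
  have hrel : qf 1 (-v) (-u) x y = 0 := hinj (by
    simp only [qf, map_add, map_mul, map_pow, map_neg, map_one, map_zero, hxe]
    linear_combination (ι y ^ 2) * huv)
  refine isQuadLocal_of_isReduced ?_ hspan hdisc (by rw [hrel]; exact zero_mem _)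
  rintro ⟨w, hw⟩
  have hw' : maximalIdeal A = Ideal.span {w} := hw
  obtain ⟨a₀, ha₀⟩ := Ideal.mem_span_singleton'.1 (hw' ▸ hy : y ∈ Ideal.span {w})
  obtain ⟨a₁, ha₁⟩ := Ideal.mem_span_singleton'.1 (hw' ▸ hx : x ∈ Ideal.span {w})
  obtain ⟨z, hz⟩ := Ideal.mem_span_singleton'.1 (show ι w ∈ Ideal.span {ι y} by
    rw [← Ideal.submodule_span_eq, ← hτ]; exact Ideal.mem_map_of_mem _ (hw' ▸ Ideal.mem_span_singleton_self w))
  -- `ι y` is regular
  obtain ⟨d, hdm, hd⟩ : ∃ d ∈ maximalIdeal A, d ∈ A⁰ := by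
    by_contra! hno
    have hsub : (maximalIdeal A : Set A) ⊆ ⋃ p : NagataOne.Min A, (p.1 : Set A) := fun s hs => by
      have := hno s hs
      rw [NagataOne.mem_nonZeroDivisors_iff_forall_notMem] at this
      push_neg at this
      exact Set.mem_iUnion.2 this
    obtain ⟨p, -, hp⟩ := (Ideal.subset_union_prime_finite (f := fun p : NagataOne.Min A => p.1)
      (Set.finite_univ (α := NagataOne.Min A)) (Classical.choice (by
        obtain ⟨p, -⟩ := Set.mem_iUnion.1 (hsub (zero_mem (maximalIdeal A)))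
        exact ⟨p⟩)) (Classical.choice (by
        obtain ⟨p, -⟩ := Set.mem_iUnion.1 (hsub (zero_mem (maximalIdeal A)))
        exact ⟨p⟩)) (fun p _ _ _ => p.2.1.1)).1 (by simpa using hsub)
    have hmin : maximalIdeal A ∈ minimalPrimes A :=
      ((maximalIdeal.isMaximal A).eq_of_le p.2.1.1.ne_top hp) ▸ p.2
    haveI : Ring.KrullDimLE 0 A := Ring.KrullDimLE.mk₀ fun P hP => by
      have h1 : P ≤ maximalIdeal A := IsLocalRing.le_maximalIdeal hP.ne_top
      have h2 := hmin.2 ⟨hP, bot_le⟩ h1
      rw [le_antisymm h1 h2]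
      exact maximalIdeal.isMaximal A
    have := Ring.krullDimLE_iff.1 ‹Ring.KrullDimLE 0 A›
    rw [hdim] at this
    exact absurd this (by norm_num)
  have hyreg : ∀ e : S, ι y * e = 0 → e = 0 := by
    intro e he
    obtain ⟨w₁, hw₁⟩ := Ideal.mem_span_singleton'.1 (show ι d ∈ Ideal.span {ι y} by
      rw [← Ideal.submodule_span_eq, ← hτ]; exact Ideal.mem_map_of_mem _ hdm)
    refine Subtype.ext (((IsLocalization.map_units K (⟨d, hd⟩ : A⁰)).mul_right_eq_zero).1 ?_)
    have : ι d * e = 0 := by rw [← hw₁, mul_assoc, he, mul_zero]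
    exact congrArg Subtype.val this
  by_cases hu : IsUnit a₀
  · obtain ⟨c₀, hc₀⟩ := hu.exists_left_inv
    refine hθR ⟨c₀ * a₁, sub_eq_zero.1 (hyreg _ ?_)⟩
    show ι y * (ι (c₀ * a₁) - θ) = 0
    rw [mul_sub, ← hxe, ← map_mul, ← map_sub, ← ha₀, ← ha₁,
      show a₀ * w * (c₀ * a₁) - a₁ * w = a₁ * w * (c₀ * a₀ - 1) by ring, hc₀, sub_self, mul_zero, map_zero]
  · have h1 : z * ι a₀ = 1 := sub_eq_zero.1 (hyreg _ (by
      rw [mul_sub, mul_one, ← mul_assoc, mul_comm (ι y) z, hz, ← map_mul, mul_comm w a₀, ha₀, sub_self]))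
    have := congrArg f h1
    rw [map_mul, map_one, show f (ι a₀) = t a₀ from RingHom.congr_fun hf a₀,
      (ht0 a₀).2 ((mem_maximalIdeal a₀).2 hu), mul_zero] at this
    exact zero_ne_one this

end Groth.Agent.NodeBranch
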