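import Groth.Agent.NodeChar.Point
import Groth.Agent.NodeBranch.Count

/-!
The normalisation of a quadratic local ring: `δ = 1` and two geometric branches.
-/

set_option autoImplicit false
set_option linter.style.haveILetI false
set_option maxHeartbeats 1000000

universe u

open IsLocalRing
open scoped nonZeroDivisors

namespace Groth.Agent.NodeBranch

open Groth.Agent.NodeChar

variable {A : Type u} [CommRing A] [IsLocalRing A] [IsNoetherianRing A] {x y a b c : A}

theorem pow_le_span (hd : QuadData x y a b c) (n : ℕ) :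
    maximalIdeal A ^ (n + 1) ≤ Ideal.span {x * y ^ n, y ^ (n + 1)} := by
  refine Submodule.le_of_le_smul_of_le_jacobson_bot (IsNoetherian.noetherian _)
    (IsLocalRing.maximalIdeal_le_jacobson ⊥) ?_
  rw [smul_eq_mul, ← pow_succ']
  exact hd.pow_le n

theorem exists_div (hd : QuadData x y a b c) {n : ℕ} {z : A} (hz : z ∈ maximalIdeal A ^ (n + 1)) :
    ∃ w ∈ maximalIdeal A, z = y ^ n * w := by
  obtain ⟨p, q, rfl⟩ := Ideal.mem_span_pair.1 (pow_le_span hd n hz)
  exact ⟨p * x + q * y, add_mem (Ideal.mul_mem_left _ _ hd.mem_x) (Ideal.mul_mem_left _ _ hd.mem_y), by ring⟩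

theorem y_mem_nonZeroDivisors (hd : QuadData x y a b c) (hI : Ind x y) : y ∈ A⁰ := by
  refine mem_nonZeroDivisors_iff_right.2 fun z hz => mem_of_forall_pow fun n => ?_
  induction n with
  | zero => simp
  | succ n ih =>
    rcases n with _ | n
    · rw [zero_add, pow_one, mem_maximalIdeal]
      intro hu
      have hy0 : y = 0 := hu.mul_right_eq_zero.1 hz
      have h1 := hI 0 0 1 (by rw [hy0]; simp)
      exact (maximalIdeal.isMaximal A).ne_top ((Ideal.eq_top_iff_one _).2 h1.2)
    obtain ⟨p, q, hpq⟩ := Ideal.mem_span_pair.1 (pow_le_span hd n ih)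
    obtain ⟨hp, hq⟩ := hI (n + 1) p q (by
      rw [show p * (x * y ^ (n + 1)) + q * y ^ (n + 1 + 1) = z * y by rw [← hpq]; ring, hz]
      exact zero_mem _)
    rw [← hpq, pow_succ' (maximalIdeal A) (n + 1)]
    exact add_mem (Ideal.mul_mem_mul hp (by rw [pow_succ']; exact Ideal.mul_mem_mul hd.mem_x (Ideal.pow_mem_pow hd.mem_y n)))
      (Ideal.mul_mem_mul hq (Ideal.pow_mem_pow hd.mem_y _))

theorem ringKrullDim_eq_one (h : IsQuadLocal A) : ringKrullDim A = 1 := by
  obtain ⟨x, y, a, b, c, hd, hI⟩ := h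
  have hy := y_mem_nonZeroDivisors hd hI
  refine le_antisymm ?_ ?_
  · rw [← IsLocalRing.maximalIdeal_height_eq_ringKrullDim]
    have hmin : maximalIdeal A ∈ (Ideal.span {y}).minimalPrimes := by
      refine ⟨⟨inferInstance, (Ideal.span_singleton_le_iff_mem _).2 hd.mem_y⟩, fun P ⟨hP, hyP⟩ _ => ?_⟩
      rw [hd.span]
      refine Ideal.span_le.2 (Set.insert_subset ?_ (Set.singleton_subset_iff.2 (hyP (Ideal.subset_span rfl))))
      obtain ⟨w, -, hw⟩ := exists_div hd (n := 1) (Ideal.pow_mem_pow hd.mem_x 2)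
      refine hP.mem_of_pow_mem 2 ?_
      rw [hw]
      exact Ideal.mul_mem_right _ _ (by rw [pow_one]; exact hyP (Ideal.subset_span rfl))
    exact_mod_cast Ideal.height_le_one_of_isPrincipal_of_mem_minimalPrimes (Ideal.span {y}) _ hmin
  · have h1 := ringKrullDim_quotient_succ_le_of_nonZeroDivisor hy
    refine le_trans ?_ h1
    haveI : Nontrivial (A ⧸ Ideal.span {y}) := Ideal.Quotient.nontrivial_iff.2
      (ne_top_of_le_ne_top (maximalIdeal.isMaximal A).ne_top ((Ideal.span_singleton_le_iff_mem _).2 hd.mem_y))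
    calc (1 : WithBot ℕ∞) = 0 + 1 := (zero_add _).symm
      _ ≤ ringKrullDim (A ⧸ Ideal.span {y}) + 1 := by gcongr; exact ringKrullDim_nonneg_of_nontrivial

theorem exists_pow_mem (h : IsQuadLocal A) {y d : A} (hy : y ∈ maximalIdeal A) (hd : d ∈ A⁰) :
    ∃ (N : ℕ) (r : A), y ^ N = d * r := by
  by_cases hu : IsUnit d
  · obtain ⟨d', hd'⟩ := hu.exists_left_inv
    exact ⟨0, d', by rw [pow_zero, ← hd']; ring⟩
  haveI : Nontrivial (A ⧸ Ideal.span {d}) := Ideal.Quotient.nontrivial_iff.2
    (ne_top_of_le_ne_top (maximalIdeal.isMaximal A).ne_top ((Ideal.span_singleton_le_iff_mem _).2 ((mem_maximalIdeal d).2 hu)))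
  haveI : IsLocalRing (A ⧸ Ideal.span {d}) := IsLocalRing.of_surjective' (Ideal.Quotient.mk _) Ideal.Quotient.mk_surjective
  haveI : Ring.KrullDimLE 0 (A ⧸ Ideal.span {d}) := Ring.krullDimLE_iff.2 (by
    have h1 := ringKrullDim_quotient_succ_le_of_nonZeroDivisor hd
    rw [ringKrullDim_eq_one h] at h1
    revert h1
    induction ringKrullDim (A ⧸ Ideal.span {d}) using WithBot.recBotCoe with
    | bot => simp
    | coe n =>
      intro h1
      have h3 : n + 1 ≤ 1 := by exact_mod_cast h1
      rw [Nat.cast_zero]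
      exact_mod_cast (ENat.add_le_add_iff_right (show (1 : ℕ∞) ≠ ⊤ by simp)).1 (show n + 1 ≤ 0 + 1 by simpa using h3))
  haveI : IsLocalHom (Ideal.Quotient.mk (Ideal.span {d})) := IsLocalHom.of_surjective _ Ideal.Quotient.mk_surjective
  obtain ⟨N, hN⟩ := (Ring.KrullDimLE.isNilpotent_iff_mem_maximalIdeal (R := A ⧸ Ideal.span {d})).2
    (show Ideal.Quotient.mk (Ideal.span {d}) y ∈ maximalIdeal _ from
      (mem_maximalIdeal _).2 fun hu' => (mem_maximalIdeal _).1 hy (isUnit_of_map_unit _ _ hu'))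
  rw [← map_pow, Ideal.Quotient.eq_zero_iff_mem, Ideal.mem_span_singleton'] at hN
  obtain ⟨r, hr⟩ := hN
  exact ⟨N, r, by rw [← hr, mul_comm]⟩

/-- the invariants of a quadratic local ring -/
theorem delta_branches_of_isQuadLocal (h : IsQuadLocal A) :
    Curv2.deltaInv A = 1 ∧ Brnch.numGeomBranches A = 2 := by
  classical
  haveI := isReduced_of_isQuadLocal h
  obtain ⟨x, y, a, b, c, hd, hI⟩ := id h
  have hy := y_mem_nonZeroDivisors hd hI
  let K := FractionRing A
  let ι := algebraMap A K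
  have hinj : Function.Injective ι := IsFractionRing.injective A K
  set θ : K := IsLocalization.mk' K x (⟨y, hy⟩ : A⁰)
  have hyu : IsUnit (ι y) := IsLocalization.map_units K (⟨y, hy⟩ : A⁰)
  have hθ : ι y * θ = ι x := IsLocalization.mk'_spec' K x (⟨y, hy⟩ : A⁰)
  obtain ⟨r, hr, hqr⟩ := exists_div hd (n := 2) hd.mem
  have hrel : ι a * θ ^ 2 + ι b * θ + ι c = ι r := by
    refine (hyu.pow 2).mul_left_cancel ?_
    have h1 := congrArg ι hqr
    simp only [qf, map_add, map_mul, map_pow] at h1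
    rw [← h1, ← hθ]
    ring
  obtain ⟨a', ha'⟩ := hd.isUnit_a.exists_left_inv
  have hθ2 : θ ^ 2 = ι (a' * (r - c)) + ι (-(a' * b)) * θ := by
    have e : ι a' * ι a = 1 := by rw [← map_mul, ha', map_one]
    simp only [map_mul, map_neg, map_sub]
    linear_combination ι a' * hrel - θ ^ 2 * e
  let B : Subalgebra A K :=
    { carrier := {z | ∃ α β : A, z = ι α + ι β * θ}
      mul_mem' := by
        rintro _ _ ⟨α, β, rfl⟩ ⟨γ, δ, rfl⟩
        refine ⟨α * γ + β * δ * (a' * (r - c)), α * δ + β * γ + β * δ * -(a' * b), ?_⟩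
        simp only [map_add, map_mul, map_neg, map_sub] at hθ2 ⊢
        linear_combination (ι β * ι δ) * hθ2
      add_mem' := by
        rintro _ _ ⟨α, β, rfl⟩ ⟨γ, δ, rfl⟩
        exact ⟨α + γ, β + δ, by rw [map_add, map_add]; ring⟩
      algebraMap_mem' := fun α => ⟨α, 0, by simp [ι]⟩ }
  have hindep : ∀ α β s : A, s ∈ maximalIdeal A → ι α + ι β * θ = ι s →
      α ∈ maximalIdeal A ∧ β ∈ maximalIdeal A := by
    intro α β s hs e
    have e1 : β * (x * y ^ 0) + α * y ^ (0 + 1) = s * y := hinj (by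
      simp only [map_add, map_mul, map_pow]
      linear_combination ι y * e - ι β * hθ)
    obtain ⟨h1, h2⟩ := hI 0 β α (by rw [e1, zero_add, pow_two]; exact Ideal.mul_mem_mul hs hd.mem_y)
    exact ⟨h2, h1⟩
  have hmθ : ∀ β ∈ maximalIdeal A, ∃ s ∈ maximalIdeal A, ι s = ι β * θ := by
    intro β hβ
    obtain ⟨w, hw, hwe⟩ := exists_div hd (n := 1) (z := β * x) (by rw [pow_two]; exact Ideal.mul_mem_mul hβ hd.mem_x)
    refine ⟨w, hw, hyu.mul_left_cancel ?_⟩
    rw [← map_mul, show y * w = β * x by rw [hwe]; ring, map_mul, mul_left_comm, hθ]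
  have hdiv : ∀ s ∈ maximalIdeal A, ∃ z ∈ B, ι s = ι y * z := by
    intro s hs
    obtain ⟨p, q, rfl⟩ := Ideal.mem_span_pair.1 (hd.span ▸ hs : s ∈ Ideal.span {x, y})
    refine ⟨ι q + ι p * θ, ⟨q, p, rfl⟩, ?_⟩
    simp only [map_add, map_mul]
    linear_combination -ι p * hθ
  have hyB : ∀ z ∈ B, ∃ s ∈ maximalIdeal A, ι y * z = ι s := by
    rintro _ ⟨α, β, rfl⟩
    refine ⟨α * y + β * x, add_mem (Ideal.mul_mem_left _ _ hd.mem_y) (Ideal.mul_mem_left _ _ hd.mem_x), ?_⟩
    simp only [map_add, map_mul]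
    linear_combination ι β * hθ
  have hsq : ∀ z ∈ B, (∃ s ∈ maximalIdeal A, z ^ 2 = ι s) → ∃ s ∈ maximalIdeal A, z = ι s := by
    rintro _ ⟨α, β, rfl⟩ ⟨s, hs, e⟩
    obtain ⟨h1, h2⟩ := hindep (α ^ 2 + β ^ 2 * (a' * (r - c))) (2 * α * β + β ^ 2 * -(a' * b)) s hs (by
      rw [← e]
      simp only [map_add, map_mul, map_neg, map_sub, map_pow, map_ofNat] at hθ2 ⊢
      linear_combination -(ι β ^ 2) * hθ2)
    have hβ : β ∈ maximalIdeal A := by
      by_contra hβ
      refine (mem_maximalIdeal _).1 ?_ hd.isUnit_disc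
      simp only [← residue_eq_zero_iff, map_add, map_mul, map_neg, map_sub, map_pow, map_ofNat, disc] at h1 h2 hβ ⊢
      set ρ := residue A
      have hr0 : ρ r = 0 := (residue_eq_zero_iff _).2 hr
      have haa : ρ a' * ρ a = 1 := by rw [← map_mul, ha', map_one]
      have e2 : ρ β * (2 * ρ α * ρ a - ρ β * ρ b) = 0 := by
        linear_combination ρ a * h2 + ρ β ^ 2 * ρ b * haa
      have e2' := (mul_eq_zero.1 e2).resolve_left hβ
      have e1 : ρ α ^ 2 * ρ a - ρ β ^ 2 * ρ c = 0 := by
        linear_combination ρ a * h1 + ρ β ^ 2 * ρ c * haa - ρ β ^ 2 * ρ a * ρ a' * hr0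
      have e3 : ρ β ^ 2 * (ρ b ^ 2 - 4 * ρ a * ρ c) = 0 := by
        linear_combination (-(2 * ρ α * ρ a + ρ β * ρ b)) * e2' + 4 * ρ a * e1
      exact (mul_eq_zero.1 e3).resolve_left (pow_ne_zero _ hβ)
    have hα : α ∈ maximalIdeal A := by
      refine (maximalIdeal.isMaximal A).isPrime.mem_of_pow_mem 2 ?_
      have h3 := sub_mem h1 (Ideal.mul_mem_right (a' * (r - c)) _ (Ideal.pow_mem_of_mem _ hβ 2 two_pos))
      rwa [add_sub_cancel_right] at h3
    obtain ⟨s', hs', e'⟩ := hmθ β hβ
    exact ⟨α + s', add_mem hα hs', by rw [map_add, e']⟩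
  have hden : ∀ z : K, ∃ n : ℕ, ι y ^ n * z ∈ B := by
    intro z
    obtain ⟨u, d, rfl⟩ := IsLocalization.exists_mk'_eq A⁰ z
    obtain ⟨N, t, ht⟩ := exists_pow_mem h hd.mem_y d.2
    refine ⟨N, t * u, 0, ?_⟩
    rw [map_zero, zero_mul, add_zero, ← map_pow, ht, map_mul, mul_assoc, mul_comm (ι t), ← mul_assoc,
      IsLocalization.mk'_spec', map_mul, mul_comm]
  have hBmem : ∀ z, z ∈ B → IsIntegral A z := by
    rintro _ ⟨α, β, rfl⟩
    have hθi : IsIntegral A θ := by
      refine ⟨Polynomial.X ^ 2 + Polynomial.C (a' * b) * Polynomial.X + Polynomial.C (-(a' * (r - c))),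
        by monicity!, ?_⟩
      simp only [Polynomial.eval₂_add, Polynomial.eval₂_mul, Polynomial.eval₂_X_pow, Polynomial.eval₂_C,
        Polynomial.eval₂_X]
      rw [map_neg] at hθ2
      simp only [map_neg]
      linear_combination hθ2
    exact isIntegral_algebraMap.add (isIntegral_algebraMap.mul hθi)
  have hclosed : ∀ z, IsIntegral A z → z ∈ B := by
    intro z hz
    obtain ⟨G, hG⟩ := hz.fg_adjoin_singleton
    choose nw hnw using hden
    let M := ∑ w ∈ G, nw w
    have hMs : ∀ w ∈ Submodule.span A (G : Set K), ι y ^ M * w ∈ B := by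
      intro w hw
      induction hw using Submodule.span_induction with
      | mem g hg =>
        obtain ⟨j, hj⟩ := Nat.exists_eq_add_of_le (Finset.single_le_sum (f := nw) (fun _ _ => Nat.zero_le _) hg)
        rw [show M = nw g + j from hj, pow_add, mul_comm (ι y ^ nw g), mul_assoc]
        exact mul_mem (pow_mem (B.algebraMap_mem y) j) (hnw g)
      | zero => rw [mul_zero]; exact zero_mem _
      | add p q _ _ hp hq => rw [mul_add]; exact add_mem hp hq
      | smul t p _ hp =>
        rw [mul_smul_comm]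
        exact B.smul_mem hp t
    have hM : ∀ w ∈ Algebra.adjoin A {z}, ι y ^ M * w ∈ B := fun w hw => hMs w (hG ▸ hw)
    obtain ⟨n, hn⟩ : ∃ n : ℕ, ι y ^ n * z ∈ B := ⟨nw z, hnw z⟩
    induction n with
    | zero => simpa using hn
    | succ n ih =>
      refine ih ?_
      set w := ι y ^ (n + 1) * z with hw
      have hpow : ∃ s ∈ maximalIdeal A, w ^ (2 ^ (M + 1)) = ι s := by
        have hle : M + 1 ≤ (n + 1) * 2 ^ (M + 1) :=
          (Nat.lt_two_pow_self).le.trans (Nat.le_mul_of_pos_left _ (Nat.succ_pos n))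
        obtain ⟨j, hj⟩ := Nat.exists_eq_add_of_le hle
        obtain ⟨s, hs, hse⟩ := hyB _ (mul_mem (pow_mem (B.algebraMap_mem y) j)
          (hM _ (pow_mem (Algebra.subset_adjoin (Set.mem_singleton z)) (2 ^ (M + 1)))))
        refine ⟨s, hs, ?_⟩
        rw [← hse, hw, mul_pow, ← pow_mul, hj, pow_add, pow_add, pow_one]
        ring
      have hred : ∀ j, (∃ s ∈ maximalIdeal A, w ^ (2 ^ j) = ι s) → ∃ s ∈ maximalIdeal A, w = ι s := by
        intro j
        induction j with
        | zero => simp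
        | succ j ihj =>
          intro hj
          exact ihj (hsq _ (pow_mem hn _) (by rwa [← pow_mul, ← pow_succ]))
      obtain ⟨s, hs, hse⟩ := hred _ hpow
      obtain ⟨v, hv, hve⟩ := hdiv s hs
      have : ι y ^ n * z = v := hyu.mul_left_cancel (by rw [← mul_assoc, ← pow_succ', ← hw, hse, hve])
      rw [this]
      exact hv
  let S := integralClosure A K
  have hrepr : ∀ z : S, ∃ α β : A, (z : K) = ι α + ι β * θ := fun z => hclosed z z.2
  let Θ : S := ⟨θ, hBmem θ ⟨0, 1, by simp⟩⟩
  have hS : ∀ α β : A, ((algebraMap A S α + algebraMap A S β * Θ : S) : K) = ι α + ι β * θ := fun _ _ => rfl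
  refine ⟨?_, ?_⟩
  · let R := LinearMap.range (Algebra.linearMap A S)
    let f : A →ₗ[A] S ⧸ R := (R.mkQ).comp (LinearMap.toSpanSingleton A S Θ)
    have hf : ∀ β, f β = R.mkQ (β • Θ) := fun _ => rfl
    have hsurj : Function.Surjective f := fun q => by
      obtain ⟨z, rfl⟩ := R.mkQ_surjective q
      obtain ⟨α, β, hz⟩ := hrepr z
      refine ⟨β, (Submodule.Quotient.eq R).2 ⟨-α, Subtype.ext ?_⟩⟩
      show ι (-α) = β • θ - (z : K)
      rw [hz, map_neg, Algebra.smul_def]
      ring
    have hker : LinearMap.ker f = maximalIdeal A := by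
      ext β
      rw [LinearMap.mem_ker, hf, Submodule.mkQ_apply, Submodule.Quotient.mk_eq_zero]
      constructor
      · rintro ⟨α, hα⟩
        have e : ι α = β • θ := congrArg Subtype.val hα
        refine (hindep (-α) β 0 (zero_mem _) ?_).2
        rw [map_neg, map_zero, e, Algebra.smul_def]
        ring
      · intro hβ
        obtain ⟨s, -, e⟩ := hmθ β hβ
        exact ⟨s, Subtype.ext (e.trans (Algebra.smul_def β θ).symm)⟩
    haveI : IsSimpleModule A (A ⧸ maximalIdeal A) :=
      isSimpleModule_iff_isCoatom.2 (maximalIdeal.isMaximal A).out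
    show Module.length A (S ⧸ R) = 1
    rw [← (LinearMap.quotKerEquivOfSurjective f hsurj).length_eq, (Submodule.quotEquivOfEq _ _ hker).length_eq,
      Module.length_eq_one]
  · rw [numGeomBranches_eq A (S := S) AlgEquiv.refl]
    let L := AlgebraicClosure (ResidueField A)
    let t : A →+* L := Brnch.toClosure A
    have ht0 : ∀ s, t s = 0 ↔ s ∈ maximalIdeal A := fun s =>
      (map_eq_zero (algebraMap (ResidueField A) L)).trans (residue_eq_zero_iff s)
    have hta : t a ≠ 0 := fun e => (mem_maximalIdeal _).1 ((ht0 a).1 e) hd.isUnit_a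
    obtain ⟨ρ, hρ⟩ : ∃ ρ : L, t a * ρ ^ 2 + t b * ρ + t c = 0 := by
      obtain ⟨ρ, hρ⟩ := IsAlgClosed.exists_root (Polynomial.C (t a) * Polynomial.X ^ 2 +
        Polynomial.C (t b) * Polynomial.X + Polynomial.C (t c)) (by rw [Polynomial.degree_quadratic hta]; decide)
      exact ⟨ρ, by simpa [Polynomial.IsRoot] using hρ⟩
    set ρ' := -(t b) / t a - ρ with hρ'def
    have hmul : t a * ρ' = -(t b) - t a * ρ := by rw [hρ'def, mul_sub, mul_div_cancel₀ _ hta]
    have hρ' : t a * ρ' ^ 2 + t b * ρ' + t c = 0 := by linear_combination hρ + (ρ' - ρ) * hmul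
    have hne : ρ ≠ ρ' := fun e => by
      have e2 : t b = -(2 * t a * ρ) := by rw [← e] at hmul; linear_combination hmul
      refine (mem_maximalIdeal _).1 ((ht0 _).1 ?_) hd.isUnit_disc
      simp only [disc, map_sub, map_pow, map_mul, map_ofNat]
      linear_combination (t b + 2 * t a * ρ) * e2 - 4 * t a * hρ
    have hall : ∀ z : L, t a * z ^ 2 + t b * z + t c = 0 → z = ρ ∨ z = ρ' := fun z hz => by
      have e : t a * ((z - ρ) * (z - ρ')) = 0 := by linear_combination hz - hρ + (ρ - z) * hmul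
      rcases mul_eq_zero.1 ((mul_eq_zero.1 e).resolve_left hta) with h1 | h1
      · exact Or.inl (sub_eq_zero.1 h1)
      · exact Or.inr (sub_eq_zero.1 h1)
    have huniq : ∀ (z : S) (α β α' β' : A), (z : K) = ι α + ι β * θ → (z : K) = ι α' + ι β' * θ →
        t α = t α' ∧ t β = t β' := by
      intro z α β α' β' h1 h2
      obtain ⟨h3, h4⟩ := hindep (α - α') (β - β') 0 (zero_mem _) (by
        rw [map_sub, map_sub, map_zero]; linear_combination h2 - h1)
      exact ⟨sub_eq_zero.1 ((map_sub t α α').symm.trans ((ht0 _).2 h3)),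
        sub_eq_zero.1 ((map_sub t β β').symm.trans ((ht0 _).2 h4))⟩
    choose α β hαβ using hrepr
    have hmk : ∀ z : L, t a * z ^ 2 + t b * z + t c = 0 →
        ∃ σ : S →+* L, σ.comp (algebraMap A S) = t ∧ σ Θ = z := by
      intro ζ hζ
      let g : S → L := fun w => t (α w) + t (β w) * ζ
      have hg : ∀ (w : S) (p q : A), (w : K) = ι p + ι q * θ → g w = t p + t q * ζ := fun w p q hw => by
        obtain ⟨e1, e2⟩ := huniq w _ _ _ _ (hαβ w) hw
        show t (α w) + _ = _
        rw [e1, e2]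
      have hgA : ∀ s, g (algebraMap A S s) = t s := fun s => by
        rw [hg _ s 0 (by rw [map_zero, zero_mul, add_zero]; rfl)]
        simp
      refine ⟨⟨⟨⟨g, ?_⟩, fun v w => ?_⟩, ?_, fun v w => ?_⟩, RingHom.ext hgA, ?_⟩
      · simpa using hgA 1
      · show g (v * w) = g v * g w
        rw [hg _ (α v * α w + β v * β w * (a' * (r - c))) (α v * β w + β v * α w + β v * β w * -(a' * b)) (by
          show (v : K) * (w : K) = _
          rw [hαβ v, hαβ w]
          simp only [map_add, map_mul, map_neg, map_sub] at hθ2 ⊢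
          linear_combination (ι (β v) * ι (β w)) * hθ2)]
        have haa : t a' * t a = 1 := by rw [← map_mul, ha', map_one]
        have hr0 : t r = 0 := (ht0 r).2 hr
        simp only [g, map_add, map_mul, map_neg, map_sub, hr0]
        linear_combination (-(t (β v) * t (β w) * t a')) * hζ + (t (β v) * t (β w) * ζ ^ 2) * haa
      · simpa using hgA 0
      · show g (v + w) = g v + g w
        rw [hg _ (α v + α w) (β v + β w) (by
          show (v : K) + (w : K) = _
          rw [hαβ v, hαβ w, map_add, map_add]; ring)]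
        simp only [g, map_add]
        ring
      · show g Θ = ζ
        rw [hg Θ 0 1 (by simp [Θ])]
        simp
    obtain ⟨σ, hσ, hσθ⟩ := hmk ρ hρ
    obtain ⟨σ', hσ', hσθ'⟩ := hmk ρ' hρ'
    have hext : ∀ f g : S →+* L, f.comp (algebraMap A S) = t → g.comp (algebraMap A S) = t → f Θ = g Θ → f = g := by
      intro f g hf hg hfg
      refine RingHom.ext fun z => ?_
      have hz : z = algebraMap A S (α z) + algebraMap A S (β z) * Θ := Subtype.ext ((hαβ z).trans (hS _ _).symm)
      rw [hz, map_add, map_add, map_mul, map_mul, hfg, ← RingHom.comp_apply, ← RingHom.comp_apply f,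
        ← RingHom.comp_apply g, ← RingHom.comp_apply g, hf, hg]
    have hroot : ∀ f : S →+* L, f.comp (algebraMap A S) = t → f Θ = ρ ∨ f Θ = ρ' := by
      intro f hf
      refine hall _ ?_
      have e : algebraMap A S a * Θ ^ 2 + algebraMap A S b * Θ + algebraMap A S c = algebraMap A S r :=
        Subtype.ext hrel
      have e' := congrArg f e
      simp only [map_add, map_mul, map_pow, ← RingHom.comp_apply, hf] at e'
      rw [e']
      exact (ht0 r).2 hr
    have hcard : ({σ, σ'} : Set (S →+* L)) = {f | f.comp (algebraMap A S) = t} := by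
      refine Set.ext fun f => ⟨?_, fun hf => ?_⟩
      · rintro (rfl | rfl) <;> assumption
      · rcases hroot f hf with e | e
        · exact Or.inl (hext f σ hf hσ (e.trans hσθ.symm))
        · exact Or.inr (hext f σ' hf hσ' (e.trans hσθ'.symm))
    show ENat.card ↑{f : S →+* L | f.comp (algebraMap A S) = t} = 2
    rw [← Set.encard, ← hcard]
    exact Set.encard_pair fun e => hne (by rw [← hσθ, ← hσθ', e])

end Groth.Agent.NodeBranch
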